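import Groth.Agent.Lib.PnFlag.Step
import Groth.Agent.Lib.UnifReg.OnX
import Groth.Agent.Lib.ProjCoh.Horrocks
import Groth.Agent.Lib.ProjCoh.StalkLC
import Groth.Agent.Lib.ProjKoszul.Reg2
import Groth.Agent.Lib.ArtinFun.LiftImm
import Groth.Agent.Lib.TensorMod.FPConv

/-!
# Cohomology of a bundle on `P^n` from a linear subspace

* `mid_vanish`: if the twists of `E|L` have no intermediate cohomology (`dim L ≥ 2`), neither have those of `E`.
* `h0_vanish`: if `H⁰(E|L(d)) = 0` for `d < 0` (`dim L ≥ 1`), then `H⁰(E(d)) = 0` for `d < 0`.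
-/

set_option autoImplicit false
set_option linter.style.haveILetI false
universe u

open CategoryTheory CategoryTheory.Limits AlgebraicGeometry TopologicalSpace Opposite

noncomputable section

namespace Groth.Agent.Lib.PnFlag

open Groth.Agent.Lib TensorMod.Basic TensorMod.Pullback ProjCoh.Coherent Curves.LES

variable {k : Type u} [Field k]

/-- Pullback of `O(d)` along a linear map. -/
theorem nonempty_pullback_tw {m n : ℕ} (i : CohB1.ProjSpace m k ⟶ CohB1.ProjSpace n k)
    (he : Nonempty ((Scheme.Modules.pullback i).obj (Twist.twistProjSpace n k 1) ≅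
      Twist.twistProjSpace m k 1)) (d : ℤ) :
    Nonempty ((Scheme.Modules.pullback i).obj (tw n k d) ≅ tw m k d) := by
  have hnat : ∀ l : ℕ, Nonempty ((Scheme.Modules.pullback i).obj (tw n k (l : ℤ)) ≅ tw m k (l : ℤ)) := fun l => by
    obtain ⟨e⟩ := he
    obtain ⟨a⟩ := UnifReg.OnX.nonempty_pow_iso i (L := tw m k 1) ⟨e.symm⟩ l
    obtain ⟨j⟩ := nonempty_tensorPow_iso (n := m) (R := k) l
    exact ⟨a.symm ≪≫ j.symm⟩
  rcases Int.eq_nat_or_neg d with ⟨l, rfl | rfl⟩
  · exact hnat l
  obtain ⟨el⟩ := hnat l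
  let P := (Scheme.Modules.pullback i).obj (tw n k (-(l : ℤ)))
  let unit : CohB1.tensorMod P (tw m k (l : ℤ)) ≅ Coh.structureModule _ :=
    tensorIso (Iso.refl P) el.symm ≪≫ (pullbackTensorIso i _ _).symm ≪≫
      (Scheme.Modules.pullback i).mapIso (twTensor _ _ ≪≫ eqToIso (congrArg (tw n k) (neg_add_cancel (l : ℤ))) ≪≫ twZero) ≪≫
      _root_.PicLoc.pullbackStructureIso i
  exact ⟨(rightUnit P).symm ≪≫
    tensorIso (Iso.refl P) (twZero.symm ≪≫ eqToIso (congrArg (tw m k) (add_neg_cancel (l : ℤ)).symm) ≪≫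
      (twTensor (l : ℤ) (-(l : ℤ))).symm) ≪≫
    (assoc P _ _).symm ≪≫ tensorIso unit (Iso.refl _) ≪≫ leftUnit _⟩

/-- Pullback commutes with twisting. -/
theorem nonempty_pullback_twist {m n : ℕ} (i : CohB1.ProjSpace m k ⟶ CohB1.ProjSpace n k)
    (he : Nonempty ((Scheme.Modules.pullback i).obj (Twist.twistProjSpace n k 1) ≅
      Twist.twistProjSpace m k 1)) (E : (CohB1.ProjSpace n k).Modules) (d : ℤ) :
    Nonempty ((Scheme.Modules.pullback i).obj (CohB1.tensorMod E (tw n k d)) ≅
      CohB1.tensorMod ((Scheme.Modules.pullback i).obj E) (tw m k d)) := by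
  obtain ⟨a⟩ := nonempty_pullback_tw i he d
  exact ⟨pullbackTensorIso i E (tw n k d) ≪≫ tensorIso (Iso.refl _) a⟩

theorem isFinLocFree_twist {n : ℕ} {E : (CohB1.ProjSpace n k).Modules} (hE : FlatMod.IsFinLocFree E) (d : ℤ) :
    FlatMod.IsFinLocFree (CohB1.tensorMod E (tw n k d)) :=
  TensorMod.LocFree.isFinLocFree_tensorMod hE
    (TensorMod.LocFree.of_rank (TensorMod.LocFree.of_isInvertible (isInvertible_tw d)))

/-- No low cohomology in very negative twists. -/
theorem exists_low {n : ℕ} {E : (CohB1.ProjSpace n k).Modules} (hE : FlatMod.IsFinLocFree E) {q : ℕ}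
    (hq : q < n) :
    ∃ t₀ : ℤ, ∀ t : ℤ, t ≤ t₀ → Subsingleton (Coh.HH (CohB1.ProjSpace n k) (CohB1.tensorMod E (tw n k t)) q) := by
  have hEc := Perfect.Coherent.isCoh_of_isFinLocFree hE
  obtain ⟨m₀, hm⟩ := (ProjCoh.StalkLC.iff_localCohomology E hEc q).2 fun x hx => by
    haveI := ProjCoh.StalkLC.isGorenstein_stalk x
    haveI := RefHull.Reflexive.finite_stalk hEc x
    haveI := TensorMod.FPConv.free_stalk_of_isFinLocFree hE x
    refine (ProjCoh.StalkLC.subsingleton_H_iff_ext n (ProjCoh.StalkLC.ringKrullDim_stalk_of_isClosed x hx) _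
      (show q + ((n - q - 1) + 1) = n by omega)).2 ?_
    haveI : Projective (ModuleCat.of ((CohB1.ProjSpace n k).presheaf.stalk x) (E.presheaf.stalk x)) :=
      ModuleCat.projective_of_categoryTheory_projective _
    exact subsingleton_of_forall_eq 0 fun z => z.eq_zero_of_projective
  exact ⟨-m₀, fun t ht => by simpa using hm (-t) (by omega)⟩

variable (k) in
/-- The hyperplane sequence in a degree, on cohomology: `X₁ = E(d-1)`, `X₂ = E(d)`, `X₃ = h_*(h^*E(d))`. -/
structure HypSeq {n : ℕ} (h : CohB1.ProjSpace n k ⟶ CohB1.ProjSpace (n + 1) k)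
    (E : (CohB1.ProjSpace (n + 1) k).Modules) (d : ℤ) : Prop where
  exact₂ : ∀ q : ℕ, Subsingleton (Coh.HH (CohB1.ProjSpace (n + 1) k) (CohB1.tensorMod E (tw (n + 1) k (d - 1))) q) →
    Subsingleton (Coh.HH (CohB1.ProjSpace n k) (CohB1.tensorMod ((Scheme.Modules.pullback h).obj E) (tw n k d)) q) →
      Subsingleton (Coh.HH (CohB1.ProjSpace (n + 1) k) (CohB1.tensorMod E (tw (n + 1) k d)) q)
  exact₁ : ∀ q : ℕ, Subsingleton (Coh.HH (CohB1.ProjSpace n k) (CohB1.tensorMod ((Scheme.Modules.pullback h).obj E) (tw n k d)) q) →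
    Subsingleton (Coh.HH (CohB1.ProjSpace (n + 1) k) (CohB1.tensorMod E (tw (n + 1) k d)) (q + 1)) →
      Subsingleton (Coh.HH (CohB1.ProjSpace (n + 1) k) (CohB1.tensorMod E (tw (n + 1) k (d - 1))) (q + 1))

theorem hypSeq {n : ℕ} (h : CohB1.ProjSpace n k ⟶ CohB1.ProjSpace (n + 1) k) [IsClosedImmersion h]
    (he : Nonempty ((Scheme.Modules.pullback h).obj (Twist.twistProjSpace (n + 1) k 1) ≅
      Twist.twistProjSpace n k 1))
    (hses : ∀ E : (CohB1.ProjSpace (n + 1) k).Modules, FlatMod.IsFinLocFree E →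
          ∃ S : ShortComplex (CohB1.ProjSpace (n + 1) k).Modules, S.ShortExact ∧
            Nonempty (S.X₁ ≅ CohB1.tensorMod E (tw (n + 1) k (-1))) ∧ Nonempty (S.X₂ ≅ E) ∧
            Nonempty (S.X₃ ≅ (Coh.push h).obj ((Scheme.Modules.pullback h).obj E)))
    {E : (CohB1.ProjSpace (n + 1) k).Modules} (hE : FlatMod.IsFinLocFree E) (d : ℤ) : HypSeq k h E d := by
  obtain ⟨S, hS, ⟨e₁⟩, ⟨e₂⟩, ⟨e₃⟩⟩ := hses _ (isFinLocFree_twist hE d)
  obtain ⟨a⟩ := nonempty_pullback_twist h he E d
  let j₁ : S.X₁ ≅ CohB1.tensorMod E (tw (n + 1) k (d - 1)) :=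
    e₁ ≪≫ assoc _ _ _ ≪≫ tensorIso (Iso.refl E) (twTensor d (-1) ≪≫ eqToIso (congrArg (tw (n + 1) k) (by ring)))
  let j₃ : S.X₃ ≅ (Coh.push h).obj (CohB1.tensorMod ((Scheme.Modules.pullback h).obj E) (tw n k d)) :=
    e₃ ≪≫ (Coh.push h).mapIso a
  have hq : (CohB1.tensorMod ((Scheme.Modules.pullback h).obj E) (tw n k d)).IsQuasicoherent :=
    (isCoh_tensorMod (Perfect.Coherent.isCoh_of_isFinLocFree (TensorMod.LocFree.isFinLocFree_pullback h hE))
      (isCoh_tw d)).1
  have h₃ : ∀ q, Subsingleton (Coh.HH (CohB1.ProjSpace n k)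
      (CohB1.tensorMod ((Scheme.Modules.pullback h).obj E) (tw n k d)) q) →
      Subsingleton (Coh.HH (CohB1.ProjSpace (n + 1) k) S.X₃ q) := fun q hs =>
    @Equiv.subsingleton _ _ ((isoK k j₃ q).toEquiv.trans (ZarCoh.Morph.affineEquiv h _ q).toEquiv) hs
  refine ⟨fun q h1 h3 => ?_, fun q h3 h2 => ?_⟩
  · exact (isoK k e₂ q).symm.toEquiv.subsingleton_congr.2
      (ProjKoszul.Reg2.sub₂ k hS (@Equiv.subsingleton _ _ (isoK k j₁ q).toEquiv h1) (h₃ q h3))
  · exact (isoK k j₁ (q + 1)).symm.toEquiv.subsingleton_congr.2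
      (ProjKoszul.Reg2.sub₁ k hS (fun y => ⟨0, @Subsingleton.elim _ (h₃ q h3) _ _⟩)
        (@Equiv.subsingleton _ _ (isoK k e₂ (q + 1)).toEquiv h2))

/-- No intermediate cohomology, from a linear subspace of dimension at least two. -/
theorem mid_vanish {m : ℕ} (hm : 2 ≤ m) : ∀ (n : ℕ) (E : (CohB1.ProjSpace n k).Modules),
    FlatMod.IsFinLocFree E → ∀ (i : CohB1.ProjSpace m k ⟶ CohB1.ProjSpace n k) [IsClosedImmersion i],
    i ≫ CohB1.ProjSpace.toSpec n k = CohB1.ProjSpace.toSpec m k →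
    Nonempty ((Scheme.Modules.pullback i).obj (Twist.twistProjSpace n k 1) ≅ Twist.twistProjSpace m k 1) →
    (∀ (q : ℕ) (d : ℤ), 0 < q → q < m →
      Subsingleton (Coh.HH (CohB1.ProjSpace m k) (CohB1.tensorMod ((Scheme.Modules.pullback i).obj E) (tw m k d)) q)) →
    ∀ (q : ℕ) (d : ℤ), 0 < q → q < n →
      Subsingleton (Coh.HH (CohB1.ProjSpace n k) (CohB1.tensorMod E (tw n k d)) q) := by
  intro n
  induction n with
  | zero => intro E _ i _ _ _ _ q d h0 h1; omega
  | succ n ih =>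
    intro E hE i _ hi he hL q d h0 h1
    rcases lt_or_eq_of_le (le_of_closedImmersion i) with hlt | rfl
    · obtain ⟨i', _, h, _, hih, hi', hh, he', heh, hses⟩ := exists_hyperplane (Nat.lt_succ_iff.1 hlt) i hi he
      have hEh := TensorMod.LocFree.isFinLocFree_pullback h hE
      have hH : ∀ (q : ℕ) (d : ℤ), 0 < q → q < n → Subsingleton (Coh.HH (CohB1.ProjSpace n k)
          (CohB1.tensorMod ((Scheme.Modules.pullback h).obj E) (tw n k d)) q) := by
        refine ih _ hEh i' hi' he' fun q d a b => ?_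
        exact @Equiv.subsingleton _ _ (isoK k (tensorIso ((Scheme.Modules.pullbackComp i' h).app E ≪≫
          (Scheme.Modules.pullbackCongr hih).app E) (Iso.refl (tw m k d))) q).toEquiv (hL q d a b)
      have S := fun d => hypSeq h heh hses hE d
      rcases Nat.lt_or_ge q 2 with hq | hq
      · obtain rfl : q = 1 := by omega
        obtain ⟨t₀, ht₀⟩ := exists_low hE h1
        suffices ∀ (b : ℕ) (d : ℤ), d ≤ t₀ + b →
            Subsingleton (Coh.HH (CohB1.ProjSpace (n + 1) k) (CohB1.tensorMod E (tw (n + 1) k d)) 1) from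
          this (d - t₀).toNat d (by omega)
        intro b
        induction b with
        | zero => exact fun d hd => ht₀ d (by simpa using hd)
        | succ b ihb => exact fun d hd => (S d).exact₂ 1 (ihb (d - 1) (by omega)) (hH 1 d one_pos (by omega))
      · obtain ⟨p, rfl⟩ : ∃ p, q = p + 1 := ⟨q - 1, by omega⟩
        obtain ⟨d₀, hd₀⟩ := exists_forall_subsingleton E (Perfect.Coherent.isCoh_of_isFinLocFree hE)
        suffices ∀ (b : ℕ) (d : ℤ), (d₀ : ℤ) ≤ d + b →
            Subsingleton (Coh.HH (CohB1.ProjSpace (n + 1) k) (CohB1.tensorMod E (tw (n + 1) k d)) (p + 1)) from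
          this ((d₀ : ℤ) - d).toNat d (by omega)
        intro b
        induction b with
        | zero => exact fun d hd => hd₀ d (by simpa using hd) p
        | succ b ihb =>
          intro d hd
          have := (S (d + 1)).exact₁ p (hH p (d + 1) (by omega) (by omega)) (ihb (d + 1) (by omega))
          rwa [add_sub_cancel_right] at this
    · haveI := isIso_of_closedImmersion i
      obtain ⟨a⟩ := nonempty_pullback_twist i he E d
      haveI hs := hL q d h0 h1
      haveI hqc : ((Scheme.Modules.pullback i).obj (CohB1.tensorMod E (tw (n + 1) k d))).IsQuasicoherent :=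
        (Perfect.Coherent.isCoh_of_isFinLocFree (TensorMod.LocFree.isFinLocFree_pullback i (isFinLocFree_twist hE d))).1
      obtain ⟨u⟩ := ArtinFun.LiftImm.nonempty_iso_pushforward_pullback i (CohB1.tensorMod E (tw (n + 1) k d))
      exact @Equiv.subsingleton _ _ ((isoK k u q).toEquiv.trans
        ((ZarCoh.Morph.affineEquiv i _ q).toEquiv.trans (isoK k a q).toEquiv)) hs

/-- No sections of negative twists, from a linear subspace. -/
theorem h0_vanish {m : ℕ} (hm : 1 ≤ m) : ∀ (n : ℕ) (E : (CohB1.ProjSpace n k).Modules),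
    FlatMod.IsFinLocFree E → ∀ (i : CohB1.ProjSpace m k ⟶ CohB1.ProjSpace n k) [IsClosedImmersion i],
    i ≫ CohB1.ProjSpace.toSpec n k = CohB1.ProjSpace.toSpec m k →
    Nonempty ((Scheme.Modules.pullback i).obj (Twist.twistProjSpace n k 1) ≅ Twist.twistProjSpace m k 1) →
    (∀ d : ℤ, d < 0 →
      Subsingleton (Coh.HH (CohB1.ProjSpace m k) (CohB1.tensorMod ((Scheme.Modules.pullback i).obj E) (tw m k d)) 0)) →
    ∀ d : ℤ, d < 0 → Subsingleton (Coh.HH (CohB1.ProjSpace n k) (CohB1.tensorMod E (tw n k d)) 0) := by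
  intro n
  induction n with
  | zero => intro E _ i _ _ _ _ d _; have := le_of_closedImmersion i; omega
  | succ n ih =>
    intro E hE i _ hi he hL d hd
    rcases lt_or_eq_of_le (le_of_closedImmersion i) with hlt | rfl
    · obtain ⟨i', _, h, _, hih, hi', hh, he', heh, hses⟩ := exists_hyperplane (Nat.lt_succ_iff.1 hlt) i hi he
      have hH : ∀ d : ℤ, d < 0 → Subsingleton (Coh.HH (CohB1.ProjSpace n k)
          (CohB1.tensorMod ((Scheme.Modules.pullback h).obj E) (tw n k d)) 0) := by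
        refine ih _ (TensorMod.LocFree.isFinLocFree_pullback h hE) i' hi' he' fun d hd => ?_
        exact @Equiv.subsingleton _ _ (isoK k (tensorIso ((Scheme.Modules.pullbackComp i' h).app E ≪≫
          (Scheme.Modules.pullbackCongr hih).app E) (Iso.refl (tw m k d))) 0).toEquiv (hL d hd)
      obtain ⟨t₀, ht₀⟩ := exists_low hE (Nat.succ_pos n)
      suffices ∀ (b : ℕ) (d : ℤ), d < 0 → d ≤ t₀ + b →
          Subsingleton (Coh.HH (CohB1.ProjSpace (n + 1) k) (CohB1.tensorMod E (tw (n + 1) k d)) 0) from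
        this (d - t₀).toNat d hd (by omega)
      intro b
      induction b with
      | zero => exact fun d _ hd => ht₀ d (by simpa using hd)
      | succ b ihb =>
        exact fun d h0 hd => (hypSeq h heh hses hE d).exact₂ 0 (ihb (d - 1) (by omega) (by omega)) (hH d h0)
    · haveI := isIso_of_closedImmersion i
      obtain ⟨a⟩ := nonempty_pullback_twist i he E d
      haveI hs := hL d hd
      haveI hqc : ((Scheme.Modules.pullback i).obj (CohB1.tensorMod E (tw (n + 1) k d))).IsQuasicoherent :=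
        (Perfect.Coherent.isCoh_of_isFinLocFree (TensorMod.LocFree.isFinLocFree_pullback i (isFinLocFree_twist hE d))).1
      obtain ⟨u⟩ := ArtinFun.LiftImm.nonempty_iso_pushforward_pullback i (CohB1.tensorMod E (tw (n + 1) k d))
      exact @Equiv.subsingleton _ _ ((isoK k u 0).toEquiv.trans
        ((ZarCoh.Morph.affineEquiv i _ 0).toEquiv.trans (isoK k a 0).toEquiv)) hs

end Groth.Agent.Lib.PnFlag
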