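import Groth.Agent.H26.Hyperplane
import Groth.Agent.Lib.ProjSub.MapZero

/-!
# Hyperplanes are projective spaces, over the base field

`H26.Hyperplane.exists_iso`, recording also that the identification is one of `k`-schemes.
-/

set_option autoImplicit false
set_option linter.all false
set_option maxHeartbeats 1000000
set_option backward.isDefEq.respectTransparency.types false

universe u

open CategoryTheory CategoryTheory.Limits AlgebraicGeometry TopologicalSpace Opposite MvPolynomial
open Groth.Agent.Lib.ProjSpace Groth.Agent.H26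
open Groth.Agent.Lib.TensorMod.Gen Groth.Agent.Lib.TensorMod.Dual
open Groth.Agent.Lib.ProjMor.Sec (gl rs_gl)
open Groth.Agent.H95.ZeroSch (sv)
open Groth.Agent.Lib.ProjTilde
open Groth.Agent.H26.Hyperplane (exists_form irrelevant_le_span_X mul_homogeneousComponent)

noncomputable section

namespace Groth.Agent.Lib.PnFlag.Hyper

variable {n : ℕ} (k : Type u) [Field k]

/-- A graded surjection with kernel a given nonzero linear form. -/
theorem exists_gradedHom (h : ↥(CohB1.polyGrading (n + 1) k 1)) (hh : (h : MvPolynomial (Fin (n + 2)) k) ≠ 0) :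
    ∃ φ : CohB1.polyGrading (n + 1) k →+*ᵍ CohB1.polyGrading n k, Function.Surjective φ ∧
      φ (h : MvPolynomial (Fin (n + 2)) k) = 0 ∧
      (∀ p, φ p = 0 → (h : MvPolynomial (Fin (n + 2)) k) ∣ p) ∧
      (∀ c, φ (C c) = C c) ∧ ∃ j, φ (X j) ≠ 0 := by
  classical
  obtain ⟨j₀, hj₀⟩ : ∃ j, coeff (Finsupp.single j 1) (h : MvPolynomial (Fin (n + 2)) k) ≠ 0 := by
    by_contra hne
    push Not at hne
    exact hh ((BertiniProj.eq_sum_coeff h).trans (by simp [hne]))
  let a : Fin (n + 2) → k := fun i => coeff (Finsupp.single i 1) (h : MvPolynomial (Fin (n + 2)) k)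
  let v : Fin (n + 2) → MvPolynomial (Fin (n + 1)) k :=
    j₀.insertNth (-(C (a j₀)⁻¹ * ∑ i, C (a (j₀.succAbove i)) * X i)) X
  let f : MvPolynomial (Fin (n + 2)) k →ₐ[k] MvPolynomial (Fin (n + 1)) k := aeval v
  have hv : ∀ i, (v i).IsHomogeneous 1 := by
    intro i
    rcases Fin.eq_self_or_eq_succAbove j₀ i with rfl | ⟨m, rfl⟩
    · simp only [v, Fin.insertNth_apply_same]
      exact ((IsHomogeneous.sum _ _ _ fun m _ => isHomogeneous_C_mul_X _ m).C_mul _).neg
    · simp only [v, Fin.insertNth_apply_succAbove]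
      exact isHomogeneous_X k m
  let φ : CohB1.polyGrading (n + 1) k →+*ᵍ CohB1.polyGrading n k :=
    { f.toRingHom with
      map_mem := fun {d p} hp => show (aeval v p).IsHomogeneous d from one_mul d ▸ IsHomogeneous.aeval hp v hv }
  have hf : ∀ p, φ p = f p := fun _ => rfl
  let σ : MvPolynomial (Fin (n + 1)) k →ₐ[k] MvPolynomial (Fin (n + 2)) k := rename j₀.succAbove
  have hfσ : ∀ q, f (σ q) = q := fun q => by
    simp only [f, σ, aeval_rename]
    rw [show v ∘ j₀.succAbove = X from funext fun m => Fin.insertNth_apply_succAbove j₀ _ _ m, aeval_X_left_apply]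
  have hsum : (h : MvPolynomial (Fin (n + 2)) k) = C (a j₀) * X j₀ +
      ∑ i, C (a (j₀.succAbove i)) * X (j₀.succAbove i) := by
    conv_lhs => rw [BertiniProj.eq_sum_coeff h, Fin.sum_univ_succAbove _ j₀]
  have hdiff : ∀ p, (h : MvPolynomial (Fin (n + 2)) k) ∣ p - σ (f p) := by
    intro p
    induction p using MvPolynomial.induction_on with
    | C c => simp [f, σ]
    | add p q hp hq =>
      rw [map_add, map_add, show p + q - (σ (f p) + σ (f q)) = (p - σ (f p)) + (q - σ (f q)) by ring]
      exact dvd_add hp hq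
    | mul_X p i hp =>
      rw [map_mul, map_mul, show p * X i - σ (f p) * σ (f (X i)) =
        (p - σ (f p)) * X i + σ (f p) * (X i - σ (f (X i))) by ring]
      refine dvd_add (hp.mul_right _) (Dvd.dvd.mul_left ?_ _)
      rcases Fin.eq_self_or_eq_succAbove j₀ i with rfl | ⟨m, rfl⟩
      · refine ⟨C (a i)⁻¹, ?_⟩
        simp only [f, v, aeval_X, Fin.insertNth_apply_same, σ, map_neg, map_mul, rename_C, map_sum, rename_X]
        rw [hsum, add_mul, sub_neg_eq_add, mul_comm (C (a i)⁻¹)]
        congr 1
        rw [mul_right_comm, ← C_mul, mul_inv_cancel₀ hj₀, C_1, one_mul]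
      · simp [f, v, σ]
  refine ⟨φ, fun q => ⟨σ q, by rw [hf, hfσ]⟩, ?_, fun p hp => ?_, fun c => by simp [hf, f], j₀.succAbove 0, ?_⟩
  · rw [hf, hsum]
    simp only [map_add, map_mul, map_sum, f, aeval_C, aeval_X, v, Fin.insertNth_apply_same,
      Fin.insertNth_apply_succAbove, ← C_eq_algebraMap]
    rw [mul_neg, ← mul_assoc, ← C_mul, mul_inv_cancel₀ hj₀, C_1, one_mul, neg_add_cancel]
  · have := hdiff p
    rwa [← hf, hp, map_zero, sub_zero] at this
  · simp [hf, f, v, X_ne_zero]

open Groth.Agent.Lib.ProjSub in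
/-- A hyperplane is a projective space. -/
theorem exists_iso (s : Coh.structureModule (CohB1.ProjSpace (n + 1) k) ⟶ Twist.twistProjSpace (n + 1) k 1)
    (hs : s ≠ 0) :
    ∃ φ : CohB1.ProjSpace n k ≅ (PicF2.zeroScheme _ s).subscheme,
      φ.hom ≫ (PicF2.zeroScheme _ s).subschemeι ≫ CohB1.ProjSpace.toSpec (n + 1) k = CohB1.ProjSpace.toSpec n k ∧
      Nonempty ((Scheme.Modules.pullback (φ.hom ≫ (PicF2.zeroScheme _ s).subschemeι)).obj
          (Twist.twistProjSpace (n + 1) k 1) ≅ Twist.twistProjSpace n k 1) := by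
  classical
  obtain ⟨h, hh⟩ := exists_form (n := n + 1) (R := k) (Nat.succ_pos n) (sv s ⊤)
  have hsv : ∀ U, sv s U = gl (Groth.Agent.Lib.ProjMor.Frame.g (CohB1.polyGrading (n + 1) k) h) U :=
    fun U => by rw [← Groth.Agent.H95.ZeroSch.rs_sv s (le_top : U ≤ ⊤), ← hh]; rfl
  have hh0 : (h : MvPolynomial (Fin (n + 2)) k) ≠ 0 := by
    intro h0
    refine hs (Scheme.Modules.hom_ext _ _ fun W => ?_)
    ext r
    change s.app W r = 0
    rw [app_eq_smul s r]
    have hz : h = 0 := Subtype.ext h0
    have : sv s W = 0 := by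
      rw [hsv W, hz, show Groth.Agent.Lib.ProjMor.Frame.g (CohB1.polyGrading (n + 1) k) 0 = 0 from
        Subtype.ext (funext fun x => Subtype.ext (Localization.mk_zero _))]
      exact map_zero ((Twist.twistProjSpace (n + 1) k 1).presheaf.map (homOfLE le_top).op).hom
    change (show Γ(CohB1.ProjSpace (n + 1) k, W) from r) • sv s W = 0
    rw [this, smul_zero]
  obtain ⟨φ, hsurj, hφh, hker, hC, j₁, hj₁⟩ := exists_gradedHom k h hh0
  let A := MvPolynomial (Fin (n + 2)) k
  let S : Finset (MvPolynomial (Fin (n + 2)) k) := Finset.univ.image X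
  have hS1 : ∀ f ∈ S, f ∈ CohB1.polyGrading (n + 1) k 1 := fun f hf => by
    obtain ⟨j, -, rfl⟩ := Finset.mem_image.mp hf
    exact isHomogeneous_X k j
  have hirr : (HomogeneousIdeal.irrelevant (CohB1.polyGrading (n + 1) k)).toIdeal = Ideal.span (S : Set A) := by
    rw [Finset.coe_image, Finset.coe_univ, Set.image_univ]
    exact le_antisymm (irrelevant_le_span_X k) (Ideal.span_le.mpr (by
      rintro _ ⟨j, rfl⟩
      exact HomogeneousIdeal.mem_irrelevant_of_mem _ one_pos (isHomogeneous_X k j)))
  have hirr' : HomogeneousIdeal.irrelevant (CohB1.polyGrading n k) ≤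
      (HomogeneousIdeal.irrelevant (CohB1.polyGrading (n + 1) k)).map φ := by
    change (HomogeneousIdeal.irrelevant (CohB1.polyGrading n k)).toIdeal ≤ _
    rw [HomogeneousIdeal.toIdeal_irrelevant_le]
    intro d hd b hb
    obtain ⟨a, ha, rfl⟩ := Closed.exists_preimage_mem φ hsurj hb
    exact Ideal.mem_map_of_mem _ (HomogeneousIdeal.mem_irrelevant_of_mem _ hd ha)
  let I := PicF2.zeroScheme (Twist.twistProjSpace (n + 1) k 1) s
  haveI hI : @IsClosedImmersion I.subscheme (Proj (CohB1.polyGrading (n + 1) k)) I.subschemeι :=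
    (inferInstance : IsClosedImmersion I.subschemeι)
  have hev : ∀ (j : Fin (n + 2)) (z : Charts.AwayX k j),
      Closed.ev I.subschemeι (X j : MvPolynomial (Fin (n + 2)) k) z = 0 ↔ BertiniProj.frac h j ∣ z := by
    intro j z
    have hiso : IsIso (Proj.awayToSection (CohB1.polyGrading (n + 1) k) (X j : MvPolynomial (Fin (n + 2)) k)) :=
      (Proj.basicOpenIsoAway (CohB1.polyGrading (n + 1) k) _ (isHomogeneous_X k j) one_pos).isIso_hom
    have hbij := ConcreteCategory.bijective_of_isIso
      (Proj.awayToSection (CohB1.polyGrading (n + 1) k) (X j : MvPolynomial (Fin (n + 2)) k))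
    let e := RingEquiv.ofBijective (Proj.awayToSection (CohB1.polyGrading (n + 1) k)
      (X j : MvPolynomial (Fin (n + 2)) k)).hom hbij
    have h1 : Closed.ev I.subschemeι (X j : MvPolynomial (Fin (n + 2)) k) z = 0 ↔
        e z ∈ I.ideal (HyperplaneSection.frame k j).V := by
      rw [← I.ker_subschemeι_app (HyperplaneSection.frame k j).V]
      exact RingHom.mem_ker.symm
    refine h1.trans ?_
    rw [HyperplaneSection.ideal_hyperplane k h s hsv j]
    refine Ideal.mem_span_singleton.trans ?_
    change e (BertiniProj.frac h j) ∣ e z ↔ _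
    exact map_dvd_iff e
  have hval : ∀ (j : Fin (n + 2)) (d : ℕ) (a : A) (ha : a ∈ CohB1.polyGrading (n + 1) k (d • 1)),
      (HomogeneousLocalization.Away.mk (CohB1.polyGrading (n + 1) k) (isHomogeneous_X k j) d a ha).val =
        IsLocalization.mk' (Localization.Away (X j : MvPolynomial (Fin (n + 2)) k)) a
          (⟨X j ^ d, d, rfl⟩ : Submonoid.powers (X j : MvPolynomial (Fin (n + 2)) k)) := fun j d a ha => by
    rw [HomogeneousLocalization.Away.val_mk, Localization.mk_eq_mk']
  obtain ⟨e, he⟩ := Closed.exists_iso_of_ker I.subschemeι hirr hS1 φ hsurj hirr' fun d a ha => by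
    constructor
    · intro h0 f hf ha'
      obtain ⟨j, -, rfl⟩ := Finset.mem_image.mp hf
      rw [hev]
      obtain ⟨b, rfl⟩ := hker a h0
      cases d with
      | zero =>
        have : (h : MvPolynomial (Fin (n + 2)) k) * b = 0 := by
          by_contra hne
          have hd := IsHomogeneous.totalDegree (show ((h : MvPolynomial (Fin (n + 2)) k) * b).IsHomogeneous 0 from ha) hne
          rw [totalDegree_mul_of_isDomain hh0 (right_ne_zero_of_mul hne),
            IsHomogeneous.totalDegree (show (h : MvPolynomial (Fin (n + 2)) k).IsHomogeneous 1 from h.2) hh0] at hd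
          omega
        refine ⟨0, HomogeneousLocalization.val_injective _ ?_⟩
        rw [mul_zero, HomogeneousLocalization.val_zero, hval, this, IsLocalization.mk'_zero]
      | succ d =>
        have hb : (h : MvPolynomial (Fin (n + 2)) k) * b = h * homogeneousComponent d b :=
          mul_homogeneousComponent k h b (by simpa using ha)
        refine ⟨HomogeneousLocalization.Away.mk (CohB1.polyGrading (n + 1) k) (isHomogeneous_X k j) d
          (homogeneousComponent d b) (by simpa using homogeneousComponent_mem d b), HomogeneousLocalization.val_injective _ ?_⟩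
        rw [HomogeneousLocalization.val_mul, hval, hval]
        change _ = Localization.mk (h : MvPolynomial (Fin (n + 2)) k) ⟨X j, _⟩ * _
        rw [Localization.mk_eq_mk', ← IsLocalization.mk'_mul]
        refine IsLocalization.mk'_eq_of_eq ?_
        simp only [Submonoid.coe_mul, hb]
        ring
    · intro hv
      have := (hev j₁ _).mp (hv (X j₁) (Finset.mem_image_of_mem _ (Finset.mem_univ _)) (by simpa using ha))
      obtain ⟨z, hz⟩ := this
      obtain ⟨e', b, hb, rfl⟩ := HomogeneousLocalization.Away.mk_surjective (CohB1.polyGrading (n + 1) k)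
        (isHomogeneous_X k j₁) z
      have h1 := congrArg HomogeneousLocalization.val hz
      rw [HomogeneousLocalization.val_mul, hval, hval] at h1
      change _ = Localization.mk (h : MvPolynomial (Fin (n + 2)) k) ⟨X j₁, _⟩ * _ at h1
      rw [Localization.mk_eq_mk', ← IsLocalization.mk'_mul, IsLocalization.mk'_eq_iff_eq] at h1
      have h2 := IsLocalization.injective (Localization.Away (X j₁ : MvPolynomial (Fin (n + 2)) k))
        (powers_le_nonZeroDivisors_of_noZeroDivisors (X_ne_zero j₁)) h1
      have h3 := congrArg φ h2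
      simp only [Submonoid.coe_mul, map_mul, map_pow, hφh, zero_mul, mul_zero] at h3
      rcases mul_eq_zero.mp h3 with h4 | h4
      · rcases mul_eq_zero.mp h4 with h5 | h5
        · exact absurd h5 hj₁
        · exact absurd (pow_eq_zero_iff'.mp h5).1 hj₁
      · exact h4
  refine ⟨e.symm, ?_, ?_⟩
  · change e.inv ≫ I.subschemeι ≫ _ = _
    rw [← Category.assoc, (congrArg (e.inv ≫ ·) he.symm).trans (Iso.inv_hom_id_assoc e _)]
    refine (Category.assoc _ _ _).symm.trans ((congrArg (· ≫ _) (Groth.Agent.Lib.ProjSub.MapZero.map_toSpecZero φ hirr')).trans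
      ((Category.assoc _ _ _).trans (congrArg (_ ≫ ·) ((Spec.map_comp _ _).symm.trans ?_))))
    congr 1
    exact CommRingCat.hom_ext (RingHom.ext fun r => Subtype.ext (hC r))
  have hmap : e.inv ≫ I.subschemeι = Proj.map φ hirr' := (congrArg (e.inv ≫ ·) he.symm).trans (Iso.inv_hom_id_assoc e _)
  change Nonempty ((Scheme.Modules.pullback (e.inv ≫ I.subschemeι)).obj _ ≅ _)
  rw [hmap]
  exact Groth.Agent.Lib.ProperFin.TwistBC.nonempty_pullback_twist_iso φ hirr'
    (fun x => by
      by_contra hne
      push Not at hne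
      refine x.not_irrelevant_le ?_
      change (HomogeneousIdeal.irrelevant (CohB1.polyGrading (n + 1) k)).toIdeal ≤ x.asHomogeneousIdeal.toIdeal
      rw [hirr, Ideal.span_le]
      exact fun f hf => hne f (hS1 f hf)) 1

end Groth.Agent.Lib.PnFlag.Hyper
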