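import Groth.Agent.Lib.PnFlag.Hyper
import Groth.Agent.Lib.PnOmega.Restrict
import Groth.Agent.Lib.SurfInt.Div
import Groth.Agent.Lib.ArtinFun.QuotModIso
import Groth.Agent.Lib.ClSub.Quot
import Groth.Agent.Lib.ShStab.HomVanish
import Groth.Agent.Lib.Modules.ProjFormula
import Groth.Agent.Lib.ProjSpace.Dim

/-!
# Linear subspaces of `P^n` lie in hyperplanes

For a closed immersion `i : P^m ⟶ P^(n+1)` of `k`-schemes with `i^* O(1) ≅ O(1)` and `m ≤ n`:
`exists_hyperplane` factors `i` through a hyperplane `h : P^n ⟶ P^(n+1)` and gives, for every locally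
free `E`, the sequence `0 ⟶ E(-1) ⟶ E ⟶ h_* h^* E ⟶ 0`.
-/

set_option autoImplicit false
set_option linter.style.haveILetI false
universe u

open CategoryTheory CategoryTheory.Limits AlgebraicGeometry TopologicalSpace Opposite
open ZarCoh.FlatBC.PullbackSections

noncomputable section

namespace Groth.Agent.Lib.PnFlag

open Groth.Agent.Lib TensorMod.Basic ProjCoh.Coherent PnOmega Modules.Free

variable {k : Type u} [Field k]

theorem pullSec_smul {X Y : Scheme.{u}} (f : X ⟶ Y) (M : Y.Modules) (a : Γ(Y, ⊤)) (σ : Γ(M, ⊤)) :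
    ProjUP.pullSec f M (a • σ) = (f.appTop a • ProjUP.pullSec f M σ :) :=
  Ample.GenLocus.unitSec_smul f (U := (⊤ : Y.Opens)) a σ

theorem appTop_cst {m n : ℕ} (i : CohB1.ProjSpace m k ⟶ CohB1.ProjSpace n k)
    (hi : i ≫ CohB1.ProjSpace.toSpec n k = CohB1.ProjSpace.toSpec m k) (c : k) :
    i.appTop (cst n k c) = cst m k c := by
  change _ = Coh.toGlobal (CohB1.ProjSpace.toSpec m k) c
  rw [← hi]
  rfl

theorem sum_unitHom_app' {m a : ℕ} (w : Fin a → Γ(Twist.twistProjSpace m k 1, ⊤)) (c : Fin a → k) :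
    (∑ j, c j • unitHom _ (w j)).app ⊤ (1 : Γ(CohB1.ProjSpace m k, ⊤)) = ∑ j, cst m k (c j) • w j := by
  let ev : (Coh.structureModule (CohB1.ProjSpace m k) ⟶ Twist.twistProjSpace m k 1) →+
      Γ(Twist.twistProjSpace m k 1, ⊤) :=
    AddMonoidHom.mk' (fun φ => φ.app ⊤ (1 : Γ(CohB1.ProjSpace m k, ⊤))) fun a a' => rfl
  refine (map_sum ev _ _).trans (Finset.sum_congr rfl fun j _ => ?_)
  refine (KLin.smul_app_apply (c j) (unitHom _ (w j)) ⊤ _).trans ?_
  refine congrArg₂ (fun (r : Γ(CohB1.ProjSpace m k, ⊤)) (x : Γ(Twist.twistProjSpace m k 1, ⊤)) => r • x) ?_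
    (unitHom_app_one _ _)
  simp [cst, Subsingleton.elim (homOfLE (le_top (a := (⊤ : (CohB1.ProjSpace m k).Opens)))) (𝟙 _)]
  rfl

/-- A linear subspace is cut out by a linear form. -/
theorem exists_vanishing {m n : ℕ} (hmn : m < n) (i : CohB1.ProjSpace m k ⟶ CohB1.ProjSpace n k)
    (hi : i ≫ CohB1.ProjSpace.toSpec n k = CohB1.ProjSpace.toSpec m k)
    (e : (Scheme.Modules.pullback i).obj (Twist.twistProjSpace n k 1) ≅ Twist.twistProjSpace m k 1) :
    ∃ s : Coh.structureModule (CohB1.ProjSpace n k) ⟶ Twist.twistProjSpace n k 1, s ≠ 0 ∧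
      ProjUP.pullSec i (Twist.twistProjSpace n k 1) (s.app ⊤ (1 : Γ(CohB1.ProjSpace n k, ⊤))) = 0 := by
  classical
  obtain ⟨v, -, hv, -⟩ := exists_euler n k
  let w : Fin (n + 1) → Γ(Twist.twistProjSpace m k 1, ⊤) := fun a =>
    e.hom.app ⊤ (ProjUP.pullSec i (Twist.twistProjSpace n k 1) (v a))
  let L := Fintype.linearCombination k fun a => unitHom (Twist.twistProjSpace m k 1) (w a)
  haveI : Module.Finite k (Coh.structureModule (CohB1.ProjSpace m k) ⟶ Twist.twistProjSpace m k 1) :=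
    Module.finite_of_finrank_pos (by rw [finrank_hom]; omega)
  have hL : ¬ Function.Injective L := fun h => by
    have h2 := LinearMap.finrank_le_finrank_of_injective h
    rw [Module.finrank_fin_fun, finrank_hom] at h2
    omega
  obtain ⟨c, hc, hc0⟩ : ∃ c, L c = 0 ∧ c ≠ 0 := by
    by_contra hne
    push Not at hne
    exact hL ((injective_iff_map_eq_zero L).2 hne)
  refine ⟨∑ a, c a • unitHom (Twist.twistProjSpace n k 1) (v a), fun h0 => hc0 (hv c ?_), ?_⟩
  · rw [← sum_unitHom_app', h0]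
    rfl
  · rw [sum_unitHom_app']
    have hw : ∑ a, cst m k (c a) • w a = 0 := by
      rw [← sum_unitHom_app', show ∑ a, c a • unitHom (Twist.twistProjSpace m k 1) (w a) = L c from
        (Fintype.linearCombination_apply k _ _).symm, hc]
      rfl
    refine (ConcreteCategory.bijective_of_isIso (e.hom.app ⊤)).1 ?_
    refine Eq.trans ?_ (hw.trans (map_zero (e.hom.app ⊤).hom).symm)
    let f : Γ(Twist.twistProjSpace n k 1, ⊤) →+ Γ(Twist.twistProjSpace m k 1, ⊤) :=
      (e.hom.app ⊤).hom.comp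
        (((Scheme.Modules.pullbackPushforwardAdjunction i).unit.app (Twist.twistProjSpace n k 1)).app ⊤).hom
    refine (map_sum f _ _).trans (Finset.sum_congr rfl fun a _ => ?_)
    change e.hom.app ⊤ (ProjUP.pullSec i _ (cst n k (c a) • v a)) = _
    rw [pullSec_smul, appTop_cst i hi]
    exact Scheme.Modules.Hom.app_smul e.hom _ _

/-- A linear subspace factors through a hyperplane. -/
theorem exists_hyperplane {m n : ℕ} (hmn : m ≤ n) (i : CohB1.ProjSpace m k ⟶ CohB1.ProjSpace (n + 1) k)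
    [IsClosedImmersion i] (hi : i ≫ CohB1.ProjSpace.toSpec (n + 1) k = CohB1.ProjSpace.toSpec m k)
    (he : Nonempty ((Scheme.Modules.pullback i).obj (Twist.twistProjSpace (n + 1) k 1) ≅
      Twist.twistProjSpace m k 1)) :
    ∃ (i' : CohB1.ProjSpace m k ⟶ CohB1.ProjSpace n k) (_ : IsClosedImmersion i')
      (h : CohB1.ProjSpace n k ⟶ CohB1.ProjSpace (n + 1) k) (_ : IsClosedImmersion h),
      i' ≫ h = i ∧ i' ≫ CohB1.ProjSpace.toSpec n k = CohB1.ProjSpace.toSpec m k ∧
        h ≫ CohB1.ProjSpace.toSpec (n + 1) k = CohB1.ProjSpace.toSpec n k ∧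
        Nonempty ((Scheme.Modules.pullback i').obj (Twist.twistProjSpace n k 1) ≅
          Twist.twistProjSpace m k 1) ∧
        Nonempty ((Scheme.Modules.pullback h).obj (Twist.twistProjSpace (n + 1) k 1) ≅
          Twist.twistProjSpace n k 1) ∧
        ∀ E : (CohB1.ProjSpace (n + 1) k).Modules, FlatMod.IsFinLocFree E →
          ∃ S : ShortComplex (CohB1.ProjSpace (n + 1) k).Modules, S.ShortExact ∧
            Nonempty (S.X₁ ≅ CohB1.tensorMod E (tw (n + 1) k (-1))) ∧ Nonempty (S.X₂ ≅ E) ∧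
            Nonempty (S.X₃ ≅ (Coh.push h).obj ((Scheme.Modules.pullback h).obj E)) := by
  classical
  obtain ⟨e⟩ := he
  obtain ⟨s, hs, hvan⟩ := exists_vanishing (Nat.lt_succ_of_le hmn) i hi e
  have hL : PicF.IsInvertible (Twist.twistProjSpace (n + 1) k 1) := isInvertible_tw (n := n + 1) (R := k) 1
  obtain ⟨φ, hφ, ⟨εh⟩⟩ := Hyper.exists_iso k s hs
  let D := PicF2.zeroScheme (Twist.twistProjSpace (n + 1) k 1) s
  -- `i` lies on the hyperplane
  have hle : D ≤ i.ker := by
    choose F hxF hFU using fun x : CohB1.ProjSpace (n + 1) k =>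
      H95.ZeroSch.exists_frame hL (show x ∈ (⊤ : (CohB1.ProjSpace (n + 1) k).Opens) from trivial)
    refine Scheme.IdealSheafData.le_of_iSup_eq_top (fun x => (F x).V)
      (eq_top_iff.2 fun x _ => Opens.mem_iSup.2 ⟨x, hxF x⟩) fun x => ?_
    rw [H26.ZeroFrame.zeroScheme_ideal_eq hL s (F x), Ideal.span_singleton_le_iff_mem, Scheme.Hom.ker_apply,
      RingHom.mem_ker]
    have h1 : TensorMod.Pullback.unitSec i _ (H95.ZeroSch.sv s (F x).V.1) = 0 := by
      rw [← H95.ZeroSch.rs_sv s (le_top : (F x).V.1 ≤ ⊤)]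
      refine (ProjMor.Sec.gl_pullSec i (H95.ZeroSch.sv s ⊤) (F x).V.1).symm.trans ?_
      rw [show ProjUP.pullSec i (Twist.twistProjSpace (n + 1) k 1) (H95.ZeroSch.sv s ⊤) = 0 from hvan]
      exact map_zero (((Scheme.Modules.pullback i).obj (Twist.twistProjSpace (n + 1) k 1)).presheaf.map _).hom
    rw [← H95.ZeroSch.coord_smul (F x) (H95.ZeroSch.sv s (F x).V.1), Ample.GenLocus.unitSec_smul] at h1
    refine ((Ample.GenLocus.isGen_unitSec i (F x).he) _ le_rfl).1 ?_
    simpa only [TensorMod.Dual.rs_self, zero_smul] using h1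
  let j : CohB1.ProjSpace m k ⟶ D.subscheme :=
    IsClosedImmersion.lift D.subschemeι i (by simpa using hle)
  have hj : j ≫ D.subschemeι = i := IsClosedImmersion.lift_fac _ _ _
  let h : CohB1.ProjSpace n k ⟶ CohB1.ProjSpace (n + 1) k := φ.hom ≫ D.subschemeι
  have hh : IsClosedImmersion h := inferInstanceAs (IsClosedImmersion (φ.hom ≫ D.subschemeι))
  let i' : CohB1.ProjSpace m k ⟶ CohB1.ProjSpace n k := j ≫ φ.inv
  have hih : i' ≫ h = i := by simp [i', h, hj]
  have hi'c : IsClosedImmersion i' := by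
    haveI : IsClosedImmersion (i' ≫ h) := by rw [hih]; infer_instance
    exact IsClosedImmersion.of_comp i' h
  have hhs : h ≫ CohB1.ProjSpace.toSpec (n + 1) k = CohB1.ProjSpace.toSpec n k :=
    (Category.assoc _ _ _).trans hφ
  refine ⟨i', hi'c, h, hh, hih, ?_, hhs, ⟨?_⟩, ⟨εh⟩, fun E hE => ?_⟩
  · rw [← hhs, reassoc_of% hih, hi]
  · exact (Scheme.Modules.pullback i').mapIso εh.symm ≪≫
      (Scheme.Modules.pullbackComp i' h).app (Twist.twistProjSpace (n + 1) k 1) ≪≫
      (Scheme.Modules.pullbackCongr hih).app (Twist.twistProjSpace (n + 1) k 1) ≪≫ e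
  · -- the sequence
    have hD : Modules.DualBasis.HasDBases E := Modules.DualBasis.hasDBases_of_isFinLocFree hE
    haveI := Modules.DualAdj.tensorL_preservesHomology hD
    haveI := (Modules.DualAdj.tensorL E).preservesFiniteLimits_of_preservesHomology
    haveI := (Modules.DualAdj.tensorL E).preservesFiniteColimits_of_preservesHomology
    let T := Modules.DualAdj.tensorL E
    obtain ⟨-, ⟨eI⟩, -, -⟩ := SurfInt.Div.divisor_spec hL s hs
    let iI : _root_.ClSub.idealMod D ≅ tw (n + 1) k (-1) :=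
      (leftUnit _).symm ≪≫
        tensorIso (twZero.symm ≪≫ eqToIso (congrArg (tw (n + 1) k) (show (0 : ℤ) = -1 + 1 by norm_num)) ≪≫
          (twTensor (-1) 1).symm) (Iso.refl _) ≪≫
        assoc _ _ _ ≪≫ tensorIso (Iso.refl _) eI ≪≫ rightUnit _
    have hker : h.ker = D := (Scheme.Hom.ker_comp_of_isIso φ.hom D.subschemeι).trans D.ker_subschemeι
    obtain ⟨eQ⟩ := ArtinFun.QuotModIso.nonempty_iso_quotMod h
    let eQ' : _root_.ClSub.quotMod D ≅
        (Scheme.Modules.pushforward h).obj (Coh.structureModule (CohB1.ProjSpace n k)) :=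
      eqToIso (congrArg _root_.ClSub.quotMod hker.symm) ≪≫ eQ.symm
    refine ⟨(ClSub.Quot.idealSeq D).map T, (ClSub.Quot.idealSeq_shortExact D).map_of_exact T,
      ⟨tensorIso (Iso.refl E) iI⟩, ⟨rightUnit E⟩, ⟨?_⟩⟩
    exact tensorIso (Iso.refl E) eQ' ≪≫
      (Modules.ProjFormula.projIso h hD).app (Coh.structureModule (CohB1.ProjSpace n k)) ≪≫
      (Scheme.Modules.pushforward h).mapIso (rightUnit _)

/-- Linear subspaces are at most as big as the space. -/
theorem le_of_closedImmersion {m n : ℕ} (i : CohB1.ProjSpace m k ⟶ CohB1.ProjSpace n k)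
    [IsClosedImmersion i] : m ≤ n := by
  have h := i.isClosedEmbedding.isInducing.topologicalKrullDim_le
  rw [ProjSpace.Dim.topologicalKrullDim_projSpace_of_field,
    ProjSpace.Dim.topologicalKrullDim_projSpace_of_field] at h
  exact_mod_cast h

/-- A linear subspace of full dimension is the whole space. -/
theorem isIso_of_closedImmersion {m : ℕ} (i : CohB1.ProjSpace m k ⟶ CohB1.ProjSpace m k)
    [IsClosedImmersion i] : IsIso i := by
  have hr : Set.range i = Set.univ := by
    refine ShStab.HomVanish.eq_univ_of_dim i.isClosedEmbedding.isClosed_range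
      (ProjSpace.Dim.topologicalKrullDim_projSpace_of_field m k) ?_
    refine le_antisymm ((topologicalKrullDim_subspace_le _ _).trans
      (ProjSpace.Dim.topologicalKrullDim_projSpace_of_field m k).le) ?_
    rw [← (IsHomeomorph.topologicalKrullDim_eq _ i.isClosedEmbedding.isEmbedding.toHomeomorph.isHomeomorph)]
    exact (ProjSpace.Dim.topologicalKrullDim_projSpace_of_field m k).ge
  haveI : Surjective i := ⟨Set.range_eq_univ.1 hr⟩
  exact isIso_of_isClosedImmersion_of_surjective i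

end Groth.Agent.Lib.PnFlag
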